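import Cfsg.Agent.Lib.EPPO7.Reduce

/-!
# No proper extension of `PSL₂(7)` in the class
-/

set_option autoImplicit false
set_option linter.style.haveILetI false

namespace Cfsg.Agent.Lib.EPPO7

universe u

variable {G : Type u} [Group G] [Finite G]

/-- A fixed-point-free conjugation action of an element of prime order. -/
theorem dvd_ncard_of_fpf {y : G} {r : ℕ} [hr : Fact r.Prime] (hy : orderOf y = r) (X : Set G)
    (hX : ∀ x, x ∈ X ↔ y * x * y⁻¹ ∈ X) (hfix : ∀ x ∈ X, y * x * y⁻¹ ≠ x) : r ∣ X.ncard := by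
  classical
  by_contra hnd
  letI : Fintype X := Fintype.ofFinite X
  let σ : Equiv.Perm X := Equiv.Perm.subtypePerm (MulAut.conj y).toEquiv (fun x => (hX x).symm)
  have hpow : ∀ (n : ℕ) (a : X), (((σ ^ n) a : X) : G) = y ^ n * a * (y ^ n)⁻¹ := by
    intro n
    induction n with
    | zero => intro a; simp
    | succ n ih =>
      intro a
      rw [pow_succ, Equiv.Perm.mul_apply, ih]
      show y ^ n * (y * a * y⁻¹) * (y ^ n)⁻¹ = _
      rw [pow_succ]
      group
  have hσ : σ ^ r ^ 1 = 1 := by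
    ext a
    rw [pow_one, hpow, ← hy, pow_orderOf_eq_one]
    simp
  have hα : ¬ r ∣ Fintype.card X := by
    rw [← Nat.card_eq_fintype_card, Nat.card_coe_set_eq]
    exact hnd
  obtain ⟨a, ha⟩ := Equiv.Perm.exists_fixed_point_of_prime hα hσ
  exact hfix a a.2 (congrArg Subtype.val ha)

/-- Orders in a group in the class forced by a coset. -/
theorem no_ext (hG : PP G) (M₀ : Subgroup G) [hM : M₀.Normal] (hc : Nat.card M₀ = 168)
    (h4 : ∃ z : M₀, orderOf z = 4) (hne : M₀ ≠ ⊤) : False := by
  classical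
  haveI : Fact (Nat.Prime 2) := ⟨Nat.prime_two⟩
  haveI : Fact (Nat.Prime 3) := ⟨Nat.prime_three⟩
  haveI : Fact (Nat.Prime 7) := ⟨by norm_num⟩
  have hq1 : Nat.card (G ⧸ M₀) ≠ 1 := by
    intro h
    exact hne (Subgroup.index_eq_one.1 h)
  obtain ⟨r, hr, hrd⟩ := Nat.exists_prime_and_dvd hq1
  haveI : Fact r.Prime := ⟨hr⟩
  obtain ⟨gb, hgb⟩ := exists_prime_orderOf_dvd_card' r hrd
  have hF : ∀ {q : ℕ} [Fact q.Prime] (S : Sylow q M₀),
      ∃ y ∈ Subgroup.normalizer (((S : Subgroup M₀).map M₀.subtype : Subgroup G) : Set G),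
        (y : G ⧸ M₀) = gb := by
    intro q _ S
    obtain ⟨g, rfl⟩ := QuotientGroup.mk_surjective gb
    have h := S.normalizer_sup_eq_top
    have hg : g ∈ Subgroup.normalizer (((S : Subgroup M₀).map M₀.subtype : Subgroup G) : Set G) ⊔ M₀ := by
      rw [h]
      trivial
    obtain ⟨y, hy, m, hm, rfl⟩ := Subgroup.mem_sup_of_normal_right.1 hg
    refine ⟨y, hy, ?_⟩
    rw [QuotientGroup.mk_mul, (QuotientGroup.eq_one_iff m).2 hm, mul_one]
  by_cases hr2 : r = 2
  · -- `r = 2`
    subst hr2
    obtain ⟨P⟩ : Nonempty (Sylow 7 M₀) := inferInstance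
    have hN := card_normalizer_seven (hG.subgroup M₀) hc P
    obtain ⟨y₀, hy₀⟩ := exists_prime_orderOf_dvd_card' 3 (by rw [hN]; norm_num :
      3 ∣ Nat.card (Subgroup.normalizer ((P : Subgroup M₀) : Set M₀)))
    set P' : Subgroup G := (P : Subgroup M₀).map M₀.subtype with hP'
    set y : G := ((y₀ : M₀) : G) with hydef
    have hy3 : orderOf y = 3 := by
      rw [hydef, Subgroup.orderOf_coe, Subgroup.orderOf_coe]
      exact hy₀
    have hyN : y ∈ Subgroup.normalizer (P' : Set G) :=
      Subgroup.le_normalizer_map M₀.subtype ⟨y₀, y₀.2, rfl⟩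
    obtain ⟨x, hx, hxg⟩ := hF P
    have hx2 : (2 : ℕ) ∣ orderOf x := by
      rw [← hgb, ← hxg]
      exact orderOf_map_dvd (QuotientGroup.mk' M₀) x
    have hx1 : x ≠ 1 := by
      rintro rfl
      simp at hx2
    obtain ⟨k, hk⟩ : ∃ k, orderOf x = 2 ^ k := by
      rcases hG x hx1 with h | ⟨hp, -⟩
      · exact h
      · exact ⟨1, by rw [pow_one]; exact ((Nat.prime_dvd_prime_iff_eq Nat.prime_two hp).1 hx2).symm⟩
    have hcP : Nat.card P' = 7 := by
      have h1 := card_sylow_of_eq (p := 7) (a := 1) (m := 24) (by rw [hc]; norm_num) (by norm_num) P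
      rw [pow_one] at h1
      rw [hP', Subgroup.card_map_of_injective M₀.subtype_injective, h1]
    have hP1 : P' ≠ ⊥ := by
      intro hb
      rw [hb] at hcP
      simp at hcP
    obtain ⟨z, hz, hz1⟩ := (Subgroup.bot_or_exists_ne_one _).resolve_left hP1
    have hz7 : orderOf z = 7 := by
      have h13 : orderOf z ∣ 7 := by
        rw [← hcP]
        exact Subgroup.orderOf_dvd_natCard _ hz
      rcases (Nat.dvd_prime (by norm_num)).1 h13 with h14 | h14
      · exact absurd (orderOf_eq_one_iff.1 h14) hz1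
      · exact h14
    haveI hcyc : IsCyclic P' := isCyclic_of_prime_card hcP
    let φ := Subgroup.normalizerMonoidHom P'
    let X : Subgroup.normalizer (P' : Set G) := ⟨x, hx⟩
    let Y : Subgroup.normalizer (P' : Set G) := ⟨y, hyN⟩
    have hφ : ∀ u : Subgroup.normalizer (P' : Set G), φ u = 1 → Commute (u : G) z := by
      intro u hu
      have h16 : (φ u) ⟨z, hz⟩ = ⟨z, hz⟩ := by rw [hu]; rfl
      have h18 : (u : G) * z * (u : G)⁻¹ = z := congrArg Subtype.val h16
      show (u : G) * z = z * (u : G)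
      calc (u : G) * z = ((u : G) * z * (u : G)⁻¹) * (u : G) := by group
        _ = z * (u : G) := by rw [h18]
    have hφX : φ X ≠ 1 := by
      intro h
      obtain ⟨j, hj⟩ := hG.two_of_commute (hφ X h) hx1 hk
      rw [hz7] at hj
      have : 2 ∣ 7 := by
        rcases j with _ | j
        · simp at hj
        · rw [hj, pow_succ]
          exact Dvd.intro_left _ rfl
      omega
    have hy1 : y ≠ 1 := by
      rintro h
      rw [h] at hy3
      simp at hy3
    have hφY : φ Y ≠ 1 := by
      intro h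
      have hcop : (orderOf y).Coprime (orderOf z) := by
        rw [hy3, hz7]
        norm_num
      rcases hG.mixed (hφ Y h) hcop with h1 | h1
      · exact hy1 h1
      · exact hz1 h1
    obtain ⟨j, hj⟩ : ∃ j, orderOf (φ X) = 2 ^ j := by
      have h1 : orderOf (φ X) ∣ 2 ^ k := by
        rw [← hk]
        have h2 : orderOf X = orderOf x := Subgroup.orderOf_mk _ _
        rw [← h2]
        exact orderOf_map_dvd φ X
      obtain ⟨j, -, hj⟩ := (Nat.dvd_prime_pow Nat.prime_two).1 h1
      exact ⟨j, hj⟩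
    have hj0 : j ≠ 0 := by
      rintro rfl
      rw [pow_zero] at hj
      exact hφX (orderOf_eq_one_iff.1 hj)
    have hY3 : orderOf (φ Y) = 3 := by
      have h1 : orderOf (φ Y) ∣ 3 := by
        rw [← hy3]
        have h2 : orderOf Y = orderOf y := Subgroup.orderOf_mk _ _
        rw [← h2]
        exact orderOf_map_dvd φ Y
      rcases (Nat.dvd_prime Nat.prime_three).1 h1 with h2 | h2
      · exact absurd (orderOf_eq_one_iff.1 h2) hφY
      · exact h2
    have hcomm : Commute (φ X) (φ Y) := by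
      apply (IsCyclic.mulAutMulEquiv P').injective
      rw [map_mul, map_mul, mul_comm]
    have hco : (orderOf (φ X)).Coprime (orderOf (φ Y)) := by
      rw [hj, hY3]
      exact Nat.Coprime.pow_left _ (by norm_num)
    have hord := hcomm.orderOf_mul_eq_mul_orderOf_of_coprime hco
    have hdv : 2 ^ j * 3 ∣ orderOf (x * y) := by
      rw [← hj, ← hY3, ← hord, ← map_mul]
      have h2 : orderOf (X * Y) = orderOf (x * y) := Subgroup.orderOf_mk _ _
      rw [← h2]
      exact orderOf_map_dvd φ (X * Y)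
    have hd2 : 2 ∣ orderOf (x * y) := (dvd_pow_self 2 hj0).trans ((Dvd.intro _ rfl).trans hdv)
    have hd3 : 3 ∣ orderOf (x * y) := (Dvd.intro_left _ rfl).trans hdv
    have hxy1 : x * y ≠ 1 := by
      intro h
      rw [h] at hd3
      simp at hd3
    rcases hG _ hxy1 with ⟨m, hm⟩ | ⟨hp, -⟩
    · rw [hm] at hd3
      have := Nat.Prime.dvd_of_dvd_pow Nat.prime_three hd3
      omega
    · have h1 := (Nat.prime_dvd_prime_iff_eq Nat.prime_two hp).1 hd2
      have h3 := (Nat.prime_dvd_prime_iff_eq Nat.prime_three hp).1 hd3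
      omega
  · -- `r` odd
    obtain ⟨z, hz⟩ := h4
    have hz2 : IsPGroup 2 (Subgroup.zpowers z) := by
      rw [IsPGroup.iff_card, Nat.card_zpowers, hz]
      exact ⟨2, by norm_num⟩
    obtain ⟨S, hS⟩ := hz2.exists_le_sylow
    have hzS : z ∈ (S : Subgroup M₀) := hS (Subgroup.mem_zpowers z)
    set S' : Subgroup G := (S : Subgroup M₀).map M₀.subtype with hS'
    have hcS : Nat.card S' = 8 := by
      have h1 := card_sylow_of_eq (p := 2) (a := 3) (m := 21) (by rw [hc]; norm_num) (by norm_num) S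
      rw [hS', Subgroup.card_map_of_injective M₀.subtype_injective, h1]
      norm_num
    have hS2 : IsPGroup 2 S' := S.2.map M₀.subtype
    obtain ⟨y, hy, hyg⟩ := hF S
    have hyr : r ∣ orderOf y := by
      rw [← hgb, ← hyg]
      exact orderOf_map_dvd (QuotientGroup.mk' M₀) y
    have hy1 : y ≠ 1 := by
      rintro rfl
      simp at hyr
      exact hr.one_lt.ne' hyr
    have hyo : orderOf y = r := by
      rcases hG y hy1 with ⟨k, hk⟩ | ⟨hp, -⟩
      · exfalso
        rw [hk] at hyr
        have := Nat.Prime.dvd_of_dvd_pow hr hyr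
        exact hr2 ((Nat.prime_dvd_prime_iff_eq hr Nat.prime_two).1 this)
      · exact ((Nat.prime_dvd_prime_iff_eq hr hp).1 hyr).symm
    have hfpf : ∀ x ∈ S', x ≠ 1 → y * x * y⁻¹ ≠ x := by
      intro x hx hx1 h
      obtain ⟨k, hk⟩ := orderOf_of_mem_two hS2 hx
      have hc' : Commute x y := by
        show x * y = y * x
        calc x * y = (y * x * y⁻¹) * y := by rw [h]
          _ = y * x := by group
      obtain ⟨j, hj⟩ := hG.two_of_commute hc' hx1 hk
      rw [hyo] at hj
      have h2 : r ∣ 2 ^ j := by rw [hj]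
      have := Nat.Prime.dvd_of_dvd_pow hr h2
      exact hr2 ((Nat.prime_dvd_prime_iff_eq hr Nat.prime_two).1 this)
    have hconj1 : ∀ x : G, y * x * y⁻¹ ≠ 1 ↔ x ≠ 1 := by
      intro x
      rw [ne_eq, ne_eq, not_iff_not]
      constructor
      · intro h
        have : x = y⁻¹ * (y * x * y⁻¹) * y := by group
        rw [this, h]
        group
      · rintro rfl
        group
    have hconjo : ∀ x : G, orderOf (y * x * y⁻¹) = orderOf x := by
      intro x
      have := (MulAut.conj y).orderOf_eq x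
      rwa [MulAut.conj_apply] at this
    -- the nonidentity elements
    have hX0 : r ∣ ((S' : Set G) \ {1}).ncard := by
      apply dvd_ncard_of_fpf hyo
      · intro x
        have h1 := Subgroup.mem_normalizer_iff.1 hy x
        constructor
        · rintro ⟨h2, h3⟩
          exact ⟨h1.1 h2, (hconj1 x).2 h3⟩
        · rintro ⟨h2, h3⟩
          exact ⟨h1.2 h2, (hconj1 x).1 h3⟩
      · rintro x ⟨h1, h2⟩
        exact hfpf x h1 h2
    have hX0c : ((S' : Set G) \ {1}).ncard = 7 := by
      rw [Set.ncard_diff_singleton_of_mem (S'.one_mem), ← Nat.card_coe_set_eq]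
      show Nat.card S' - 1 = 7
      rw [hcS]
    rw [hX0c] at hX0
    have hr7 : r = 7 := (Nat.prime_dvd_prime_iff_eq hr (by norm_num)).1 hX0
    let X1 : Set G := {x | x ∈ S' ∧ orderOf x = 4}
    have hX1 : r ∣ X1.ncard := by
      apply dvd_ncard_of_fpf hyo
      · intro x
        have h1 := Subgroup.mem_normalizer_iff.1 hy x
        constructor
        · rintro ⟨h2, h3⟩
          exact ⟨h1.1 h2, by rw [hconjo]; exact h3⟩
        · rintro ⟨h2, h3⟩
          exact ⟨h1.2 h2, by rw [← hconjo x]; exact h3⟩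
      · rintro x ⟨h1, h2⟩
        refine hfpf x h1 ?_
        rintro rfl
        simp at h2
    have hzG : orderOf (z : G) = 4 := by
      rw [Subgroup.orderOf_coe]
      exact hz
    have hzS' : (z : G) ∈ S' := ⟨z, hzS, rfl⟩
    have hss : X1 ⊂ (S' : Set G) \ {1} := by
      refine ⟨?_, ?_⟩
      · rintro x ⟨h1, h2⟩
        refine ⟨h1, ?_⟩
        rintro rfl
        simp at h2
      · intro hsub
        have hz21 : (z : G) ^ 2 ≠ 1 := by
          intro h
          have := orderOf_dvd_of_pow_eq_one h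
          rw [hzG] at this
          omega
        have hmem : (z : G) ^ 2 ∈ (S' : Set G) \ {1} := ⟨S'.pow_mem hzS' 2, hz21⟩
        have h5 := (hsub hmem).2
        have h6 : ((z : G) ^ 2) ^ 2 = 1 := by
          rw [← pow_mul]
          show (z : G) ^ 4 = 1
          rw [← hzG, pow_orderOf_eq_one]
        have := orderOf_dvd_of_pow_eq_one h6
        rw [h5] at this
        omega
    have hlt := Set.ncard_lt_ncard hss (Set.toFinite _)
    rw [hX0c] at hlt
    rw [hr7] at hX1
    have h0 : X1.ncard = 0 := by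
      obtain ⟨c, hc'⟩ := hX1
      omega
    rw [Set.ncard_eq_zero (Set.toFinite _)] at h0
    have hmem : (z : G) ∈ X1 := ⟨hzS', hzG⟩
    rw [h0] at hmem
    exact hmem

end Cfsg.Agent.Lib.EPPO7
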