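import Cfsg.Agent.Lib.EPPO7.Ext

/-!
# The characterization of `PSL₂(7)` by its element orders
-/

set_option autoImplicit false
set_option linter.style.haveILetI false

namespace Cfsg.Agent.Lib.EPPO7

universe u v

variable {G : Type u} [Group G] [Finite G]

/-- Projective special linear groups over isomorphic fields are isomorphic. -/
theorem psl2_congr {F : Type*} {K : Type*} [Field F] [Field K] (φ : F ≃+* K) :
    Nonempty (Matrix.ProjectiveSpecialLinearGroup (Fin 2) F ≃* Matrix.ProjectiveSpecialLinearGroup (Fin 2) K) := by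
  let e : Matrix.SpecialLinearGroup (Fin 2) F ≃* Matrix.SpecialLinearGroup (Fin 2) K :=
    MonoidHom.toMulEquiv (Matrix.SpecialLinearGroup.map (φ : F →+* K))
      (Matrix.SpecialLinearGroup.map (φ.symm : K →+* F))
      (by ext A i j; simp) (by ext A i j; simp)
  have he : (Subgroup.center (Matrix.SpecialLinearGroup (Fin 2) F)).map e.toMonoidHom =
      Subgroup.center (Matrix.SpecialLinearGroup (Fin 2) K) := by
    ext x
    simp only [Subgroup.mem_map, Subgroup.mem_center_iff]
    constructor
    · rintro ⟨a, ha, rfl⟩ g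
      obtain ⟨g', rfl⟩ := e.surjective g
      show e g' * e a = e a * e g'
      rw [← map_mul, ← map_mul, ha g']
    · intro hx
      refine ⟨e.symm x, fun g => ?_, e.apply_symm_apply x⟩
      apply e.injective
      rw [map_mul, map_mul, e.apply_symm_apply]
      exact hx (e g)
  exact ⟨QuotientGroup.congr _ _ e he⟩

/-- A group with a normal simple nonabelian subgroup `M₀`. -/
theorem concl_of_simple_normal (hG : PP G) (hIH : IHyp.{u} (Nat.card G)) (M₀ : Subgroup G) [M₀.Normal]
    [hs : IsSimpleGroup M₀] (hnc : ¬ IsMulCommutative M₀)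
    (h3M : 3 ≤ (Nat.card M₀).primeFactors.card) : Concl G := by
  classical
  have hnc' : ∃ a b : M₀, a * b ≠ b * a := by
    by_contra hcon
    push Not at hcon
    exact hnc ⟨⟨hcon⟩⟩
  have hIM : IHyp.{u} (Nat.card M₀) := hIH.mono (Subgroup.card_le_card_group M₀)
  obtain ⟨F, iF, jF, ⟨e⟩⟩ := simple_case (hG.subgroup M₀) hIM hnc'
  have hF : Fintype.card F = 7 := by
    apply card_eq_seven ((hG.subgroup M₀).of_equiv e.symm)
    rw [← Nat.card_congr e.toEquiv]
    exact h3M
  by_cases hM : M₀ = ⊤
  · subst hM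
    exact ⟨F, iF, jF, hF, ⟨Subgroup.topEquiv.symm.trans e⟩⟩
  · exfalso
    refine no_ext hG M₀ ?_ ?_ hM
    · rw [Nat.card_congr e.toEquiv, card_L_of_seven hF]
    · obtain ⟨z, hz⟩ := exists_order_four hF
      exact ⟨e.symm z, by rw [MulEquiv.orderOf_eq]; exact hz⟩

theorem three_primes_of_simple {M : Type u} [Group M] [Finite M] [IsSimpleGroup M]
    (hnc : ¬ IsMulCommutative M) : 3 ≤ (Nat.card M).primeFactors.card := by
  by_contra hcon
  have hs := solvable_of_two_primes (G := M) (by omega)
  exact hnc ⟨⟨IsSimpleGroup.comm_iff_isSolvable.2 hs⟩⟩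

/-- The main theorem, by induction on the order. -/
theorem main_ind (n : ℕ) : ∀ (G : Type u) [Group G] [Finite G], Nat.card G = n → PP G →
    3 ≤ (Nat.card G).primeFactors.card → Concl G := by
  classical
  induction n using Nat.strong_induction_on with
  | _ n ih =>
    intro G _ _ hn hG h3
    have IHC : ∀ (Y : Type u) [Group Y] [Finite Y], Nat.card Y < Nat.card G → PP Y →
        3 ≤ (Nat.card Y).primeFactors.card → Concl Y := by
      intro Y _ _ hlt hY h3Y
      exact ih _ (hn ▸ hlt) Y rfl hY h3Y
    have hIH : IHyp.{u} (Nat.card G) := IHyp_of_concl IHC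
    have hns := not_solvable_of_primes hG h3
    obtain ⟨R, hRn, hRs, hRmax⟩ := exists_radical (G := G)
    haveI := hRn
    obtain ⟨⟨p, hp, hRp⟩, ⟨M, hMn, hMs, hMnc, -⟩, -⟩ :=
      Cfsg.Agent.S3992.result hns (pp_primePow hG) R hRs hRmax
    haveI : Fact p.Prime := ⟨hp⟩
    haveI := hMn
    haveI := hMs
    have h3M := three_primes_of_simple (M := M) hMnc
    have hG0 : Nat.card G ≠ 0 := Nat.card_pos.ne'
    have hQ0 : Nat.card (G ⧸ R) ≠ 0 := Nat.card_pos.ne'
    have h3Q : 3 ≤ (Nat.card (G ⧸ R)).primeFactors.card :=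
      h3M.trans (Finset.card_le_card (Nat.primeFactors_mono (Subgroup.card_subgroup_dvd_card M) hQ0))
    by_cases hRb : R = ⊥
    · -- trivial radical
      have hbij : Function.Bijective (QuotientGroup.mk' R) := by
        refine ⟨?_, QuotientGroup.mk'_surjective R⟩
        rw [← MonoidHom.ker_eq_bot_iff, QuotientGroup.ker_mk', hRb]
      let e : G ≃* G ⧸ R := MulEquiv.ofBijective _ hbij
      have hcc : Nat.card (G ⧸ R) = Nat.card G := (Nat.card_congr e.toEquiv).symm
      have hPPq : PP (G ⧸ R) := hG.of_equiv e.symm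
      have hIHq : IHyp.{u} (Nat.card (G ⧸ R)) := by rw [hcc]; exact hIH
      obtain ⟨F, iF, jF, hF, ⟨e'⟩⟩ := concl_of_simple_normal hPPq hIHq M hMnc h3M
      exact ⟨F, iF, jF, hF, ⟨e.trans e'⟩⟩
    · -- nontrivial radical
      exfalso
      let V : Subgroup G := R ⊓ Subgroup.centralizer (R : Set G)
      haveI hVn : V.Normal := Subgroup.normal_inf_normal R _
      have hVR : V ≤ R := inf_le_left
      have hVp : IsPGroup p V := hRp.to_le hVR
      have hV1 : V ≠ ⊥ := by
        haveI : Nontrivial R := (Subgroup.nontrivial_iff_ne_bot R).2 hRb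
        haveI := hRp.center_nontrivial
        obtain ⟨c, hc⟩ := exists_ne (1 : Subgroup.center R)
        intro hb
        have hmem : (((c : Subgroup.center R) : R) : G) ∈ V := by
          refine ⟨((c : R)).2, Subgroup.mem_centralizer_iff.2 fun r hr => ?_⟩
          have := (Subgroup.mem_center_iff.1 c.2) ⟨r, hr⟩
          exact congrArg Subtype.val this
        rw [hb, Subgroup.mem_bot] at hmem
        exact hc (Subtype.ext (Subtype.ext hmem))
      have hVc : ∀ a ∈ V, ∀ b ∈ V, a * b = b * a := by
        intro a ha b hb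
        exact Subgroup.mem_centralizer_iff.1 hb.2 a ha.1
      have hlt : Nat.card (G ⧸ V) < Nat.card G := by
        have h1 := Subgroup.card_mul_index V
        have h2 : 1 < Nat.card V := by
          haveI : Nontrivial V := (Subgroup.nontrivial_iff_ne_bot V).2 hV1
          exact Finite.one_lt_card
        have h3' : 0 < V.index := Nat.card_pos
        show V.index < _
        nlinarith
      have hPPV : PP (G ⧸ V) := hG.of_surjective (QuotientGroup.mk' V) (QuotientGroup.mk'_surjective V)
      have h3V : 3 ≤ (Nat.card (G ⧸ V)).primeFactors.card := by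
        refine h3Q.trans (Finset.card_le_card (Nat.primeFactors_mono ?_ Nat.card_pos.ne'))
        exact Subgroup.index_dvd_of_le hVR
      exact no_normal_pgroup hG V hV1 hVc hVp (IHC (G ⧸ V) hlt hPPV h3V)

/-- The characterization of `PSL₂(7)`. -/
theorem main {F : Type v} [Field F] [Fintype F] (hF : Fintype.card F = 7)
    (h3 : 3 ≤ (Nat.card G).primeFactors.card) (hG : PP G) :
    Nonempty (G ≃* Matrix.ProjectiveSpecialLinearGroup (Fin 2) F) := by
  obtain ⟨F', iF, jF, hF', ⟨e⟩⟩ := main_ind _ G rfl hG h3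
  have h7 : Nat.Prime 7 := by norm_num
  have e1 : F' ≃+* F := (ZMod.ringEquivOfPrime F' h7 hF').symm.trans (ZMod.ringEquivOfPrime F h7 hF)
  obtain ⟨e2⟩ := psl2_congr e1
  exact ⟨e.trans e2⟩

end Cfsg.Agent.Lib.EPPO7
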