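import Cfsg.Agent.Lib.EPPO7.E4
import Cfsg.Agent.S0508
import Cfsg.Agent.S3224
import Cfsg.Agent.Lib.TwoGroups.QDMax

/-!
# The case of non-TI Sylow 2-subgroups
-/

set_option autoImplicit false
set_option linter.style.haveILetI false

namespace Cfsg.Agent.Lib.EPPO7

open Cfsg.Agent.Lib.SmallSimple.SylowBasic

universe u

variable {M : Type u} [Group M] [Finite M]

/-- All involutions of a quasi-dihedral group lie in the dihedral maximal subgroup. -/
theorem qd_inv_mem {S : Type*} [Group S] {K : ℤ} {x y : S} (h : Cfsg.Agent.Lib.TwoGroups.QD.Data K x y) {s : S}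
    (hs : s * s = 1) : s ∈ h.M3 := by
  rcases h.elem_cases s with ⟨i, rfl⟩ | ⟨i, rfl⟩
  · rw [h.zpow_mem_M3]
    have h1 : x ^ (i + i) = 1 := by rw [zpow_add]; exact hs
    have h2 := (h.zpow_eq_one_iff _).1 h1
    obtain ⟨c, hc⟩ := h2
    exact ⟨2 * K * c, by linarith⟩
  · rw [h.zpow_y_mem_M3]
    rw [h.xy_mul_self] at hs
    exact (h.zsq_eq_one_iff i).1 hs

/-- The main theorem for non-TI Sylow subgroups. -/
theorem nonTI (hM : PP M) (hIH : IHyp.{u} (Nat.card M)) (hno : ∀ N : Subgroup M, N.Normal → N.index ≠ 2)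
    [IsSimpleGroup M] (S : Sylow 2 M) {S' : Sylow 2 M} (hne : S' ≠ S) {x₁ : M} (h1 : x₁ ∈ (S : Subgroup M))
    (h2 : x₁ ∈ (S' : Subgroup M)) (hx₁ : x₁ ≠ 1) :
    ∃ (F : Type) (_ : Field F) (_ : Fintype F), Odd (Fintype.card F) ∧
      Nonempty (M ≃* Matrix.ProjectiveSpecialLinearGroup (Fin 2) F) := by
  classical
  haveI : Fact (Nat.Prime 2) := ⟨Nat.prime_two⟩
  obtain ⟨P, hI, -⟩ := exists_IMax hne h1 h2 hx₁
  obtain ⟨h4, hVP, hC, hPS⟩ := hI.card_eq_four hM hIH hno
  obtain ⟨τ, u, r, b, D⟩ := hI.exists_dat hM hIH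
  have hS1 : (S : Subgroup M) ≠ ⊥ := by
    intro h
    have := D.PS
    rw [h, le_bot_iff] at this
    exact D.p1 this
  obtain ⟨z, hz, hz1⟩ := (Subgroup.bot_or_exists_ne_one _).resolve_left (omegaZ_ne_bot S.2 hS1)
  have hzP : z ∈ P := omegaZ_le P (D.omegaZ_S_mem hz)
  have hz2 := hz.2.2
  obtain ⟨x₀, hx₀P, s₀, hs₀S, hs₀⟩ : ∃ x₀ ∈ P, ∃ s₀ ∈ (S : Subgroup M), s₀ * x₀ ≠ x₀ * s₀ := by
    by_contra hcon
    push Not at hcon
    apply not_le_of_gt hPS
    intro s hs
    apply hC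
    rw [Subgroup.mem_centralizer_iff]
    intro p hp
    exact (hcon p hp s hs).symm
  have hx₀1 : x₀ ≠ 1 := by
    rintro rfl
    simp at hs₀
  have hx₀z : x₀ ≠ z := by
    rintro rfl
    exact hs₀ (hz.2.1 s₀ hs₀S)
  have hcent : ∀ {s : M}, s ∈ (S : Subgroup M) → s * x₀ = x₀ * s → s ∈ P :=
    fun hs hsx => D.cent_small h4 hz hz1 hx₀P hx₀1 hx₀z hs hsx
  have hx₀V : x₀ ∈ omegaZ P := by rw [hVP]; exact hx₀P
  have hx₀2 := hx₀V.2.2
  have hx₀ord : orderOf x₀ = 2 := orderOf_eq_prime (by rw [sq]; exact hx₀2) hx₀1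
  let X₀ : (S : Subgroup M) := ⟨x₀, hPS.le hx₀P⟩
  have hcentS : Subgroup.centralizer ({X₀} : Set (S : Subgroup M)) = P.subgroupOf (S : Subgroup M) := by
    ext s
    rw [Subgroup.mem_centralizer_singleton_iff, Subgroup.mem_subgroupOf]
    constructor
    · intro h
      exact hcent s.2 (congrArg Subtype.val h)
    · intro h
      apply Subtype.ext
      exact omegaZ_comm hx₀V h
  have hcardC : Nat.card (Subgroup.centralizer ({X₀} : Set (S : Subgroup M))) = 4 := by
    rw [hcentS, ← h4]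
    exact Nat.card_congr (Subgroup.subgroupOfEquivOfLe hPS.le).toEquiv
  have hcS : 8 ≤ Nat.card (S : Subgroup M) := by
    obtain ⟨k, hk⟩ := IsPGroup.iff_card.1 S.2
    have hlt : Nat.card P < Nat.card (S : Subgroup M) := by
      apply lt_of_le_of_ne (Subgroup.card_le_of_le hPS.le)
      intro h
      exact (ne_of_lt hPS) (Subgroup.eq_of_le_of_card_ge hPS.le h.ge)
    rw [h4, hk] at hlt
    rw [hk]
    rcases Nat.lt_or_ge k 3 with h | h
    · interval_cases k <;> omega
    · calc 8 = 2 ^ 3 := by norm_num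
        _ ≤ 2 ^ k := Nat.pow_le_pow_right (by norm_num) h
  have hX₀ord : orderOf X₀ = 2 := by
    rw [Subgroup.orderOf_mk]; exact hx₀ord
  rcases Cfsg.Agent.S3224.result (S := (S : Subgroup M)) S.2 X₀ hX₀ord hcardC with ⟨n, ⟨e⟩⟩ | hq | h4'
  · -- dihedral
    have hcn : Nat.card (S : Subgroup M) = 2 * n := by
      rw [Nat.card_congr e.toEquiv, DihedralGroup.nat_card]
    have hn : 2 ≤ n := by omega
    have hzord : orderOf z = 2 := orderOf_eq_prime (by rw [sq]; exact hz2) hz1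
    have hzord' : orderOf z = 2 ^ 1 := by rw [pow_one]; exact hzord
    have hC2 : IsPGroup 2 (Subgroup.centralizer ({z} : Set M)) := hM.isPGroup_centralizer hz1 hzord'
    have hcore : Cfsg.oddCore (Subgroup.centralizer ({z} : Set M)) = ⊥ := by
      have h3 : IsPGroup 2 (Cfsg.oddCore (Subgroup.centralizer ({z} : Set M))) := hC2.to_subgroup _
      obtain ⟨k, hk⟩ := IsPGroup.iff_card.1 h3
      have h5 : (Nat.card (Cfsg.oddCore (Subgroup.centralizer ({z} : Set M)))).Coprime 2 :=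
        Cfsg.Agent.Lib.Core.Basic.pPrimeCore_coprime
      rw [hk] at h5
      have hk0 : k = 0 := by
        by_contra hk0
        have h6 : 2 ∣ Nat.gcd (2 ^ k) 2 := Nat.dvd_gcd (dvd_pow_self 2 hk0) dvd_rfl
        rw [h5] at h6
        omega
      rw [hk0, pow_zero] at hk
      exact Subgroup.eq_bot_of_card_eq _ hk
    exact Cfsg.Agent.S0508.result S n hn ⟨e⟩ z hzord (omegaZ_le _ hz) (fun s hs => hz.2.1 s hs) ⊥
      (by rw [hcore, Subgroup.map_bot]) (fun h => absurd rfl h)
      (fun s _ hs => by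
        exfalso
        apply hs
        rw [Subgroup.mem_centralizer_iff]
        intro h hh
        have : h = 1 := by simpa using hh
        rw [this]; simp)
      (fun Y hY hY1 => absurd (le_bot_iff.1 hY) hY1)
  · -- quasi-dihedral
    exfalso
    obtain ⟨n, K, x, y, -, -, -, hdata⟩ := Cfsg.Agent.Lib.TwoGroups.QD.exists_data hq
    have hNS : ∀ g ∈ Subgroup.normalizer ((S : Subgroup M) : Set M), g ∈ (S : Subgroup M) := by
      intro g hg
      have h3 := omegaZ_conj hg hz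
      have h5 : g * z * g⁻¹ = z := by
        by_contra hne'
        have h6 : g * z * g⁻¹ ≠ 1 := by
          intro h7
          apply hz1
          have h8 := mul_inv_eq_one.1 h7
          exact mul_left_cancel (h8.trans (mul_one g).symm)
        have hE := eq_of_card_four (P := P) (E := omegaZ (S : Subgroup M) ⊓ P) h4 inf_le_right (x := g * z * g⁻¹) (y := z)
          ⟨h3, omegaZ_le P (D.omegaZ_S_mem h3)⟩ ⟨hz, hzP⟩ h6 hz1 hne'
        have h7 : x₀ ∈ omegaZ (S : Subgroup M) ⊓ P := by rw [hE]; exact hx₀P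
        exact hs₀ (h7.1.2.1 s₀ hs₀S)
      have hcomm : Commute z g := by
        show z * g = g * z
        calc z * g = (g * z * g⁻¹) * g := by rw [h5]
          _ = g * z := by group
      have hzord' : orderOf z = 2 ^ 1 := by
        rw [pow_one]
        exact orderOf_eq_prime (by rw [sq]; exact hz2) hz1
      obtain ⟨j, hj⟩ := D.pp.two_of_commute hcomm hz1 hzord'
      have hZ2 : IsPGroup 2 (Subgroup.zpowers g) := by
        rw [IsPGroup.iff_card, Nat.card_zpowers, hj]
        exact ⟨j, rfl⟩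
      have hQ := IsPGroup.to_sup_of_normal_right' hZ2 S.2 ((Subgroup.zpowers_le).2 hg)
      have heq := S.3 hQ le_sup_right
      rw [← heq]
      exact (le_sup_left : Subgroup.zpowers g ≤ _) (Subgroup.mem_zpowers g)
    have hK2 : (hdata.M3.map (S : Subgroup M).subtype).subgroupOf (S : Subgroup M) = hdata.M3 := by
      ext s
      simp [Subgroup.mem_subgroupOf]
    have hidx : ((hdata.M3.map (S : Subgroup M).subtype).subgroupOf (S : Subgroup M)).index = 2 := by
      rw [hK2]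
      exact hdata.index_M3
    obtain ⟨x', hx'S, hx'S₀, S'', hS'', hx'S''⟩ := lemmaT hno S hNS hidx
    have hx'1 : x' ≠ 1 := by
      rintro rfl
      exact hx'S₀ (Subgroup.one_mem _)
    obtain ⟨P'', hI'', hx'P''⟩ := exists_IMax hS'' hx'S hx'S'' hx'1
    obtain ⟨-, hVP'', -, -⟩ := hI''.card_eq_four hM hIH hno
    have hx'V : x' ∈ omegaZ P'' := by rw [hVP'']; exact hx'P''
    have h3 : (⟨x', hx'S⟩ : (S : Subgroup M)) ∈ hdata.M3 := by
      apply qd_inv_mem
      apply Subtype.ext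
      exact hx'V.2.2
    exact hx'S₀ ⟨_, h3, rfl⟩
  · omega

end Cfsg.Agent.Lib.EPPO7
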