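import Cfsg.Agent.Lib.EPPO7.TI2
import Cfsg.Agent.S0340

/-!
# The case of TI Sylow 2-subgroups, III: the Zassenhaus property
-/

set_option autoImplicit false
set_option linter.style.haveILetI false

namespace Cfsg.Agent.Lib.EPPO7

universe u

variable {M : Type u} [Group M] [Finite M]

theorem DD_congr {H : Subgroup M} {a c : M} (h : a⁻¹ * c ∈ H) : DD H a = DD H c := by
  have key : ∀ x : M, a⁻¹ * x * a ∈ H ↔ c⁻¹ * x * c ∈ H := by
    intro x
    have e : c⁻¹ * x * c = (a⁻¹ * c)⁻¹ * (a⁻¹ * x * a) * (a⁻¹ * c) := by group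
    rw [e]
    constructor
    · intro hx
      exact H.mul_mem (H.mul_mem (H.inv_mem h) hx) h
    · intro hx
      have : a⁻¹ * x * a = (a⁻¹ * c) * ((a⁻¹ * c)⁻¹ * (a⁻¹ * x * a) * (a⁻¹ * c)) * (a⁻¹ * c)⁻¹ := by group
      rw [this]
      exact H.mul_mem (H.mul_mem h hx) (H.inv_mem h)
  ext x
  constructor
  · rintro ⟨h1, h2⟩
    exact ⟨h1, mem_map_conj.2 ((key x).1 (mem_map_conj.1 h2))⟩
  · rintro ⟨h1, h2⟩
    exact ⟨h1, mem_map_conj.2 ((key x).2 (mem_map_conj.1 h2))⟩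

theorem fix_iff {H : Subgroup M} {g x : M} : g • (x : M ⧸ H) = (x : M ⧸ H) ↔ x⁻¹ * g * x ∈ H := by
  have h1 : g • (x : M ⧸ H) = ((g * x : M) : M ⧸ H) := rfl
  rw [h1, QuotientGroup.eq]
  constructor
  · intro h
    have := H.inv_mem h
    simpa [mul_assoc] using this
  · intro h
    have := H.inv_mem h
    simpa [mul_assoc] using this

namespace TI

variable {S : Sylow 2 M}

/-- Every coset outside `H` is represented by an involution. -/
theorem exists_inv_to (T : TI S) {g : M} (hg : g ∉ Subgroup.normalizer ((S : Subgroup M) : Set M)) :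
    ∃ i : M, orderOf i = 2 ∧ i⁻¹ * g ∈ Subgroup.normalizer ((S : Subgroup M) : Set M) := by
  classical
  set H := Subgroup.normalizer ((S : Subgroup M) : Set M) with hH
  have hne : ((1 : M) : M ⧸ H) ≠ ((g : M) : M ⧸ H) := by
    intro h
    apply hg
    have := QuotientGroup.eq.1 h
    simpa using this
  have hcard := Cfsg.Agent.S1224.result H T.stronglyEmbedded _ _ hne
  obtain ⟨e, he, he1, heo⟩ := T.exists_e
  have hpos : 0 < Nat.card {t : M // orderOf t = 2 ∧ t ∈ H} := by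
    haveI : Nonempty {t : M // orderOf t = 2 ∧ t ∈ H} := ⟨⟨e, heo, Subgroup.le_normalizer (omegaZ_le _ he)⟩⟩
    exact Nat.card_pos
  rw [← hcard] at hpos
  obtain ⟨⟨i, hi, hig⟩⟩ := Nat.card_pos_iff.1 hpos |>.1
  refine ⟨i, hi, ?_⟩
  have h1 : ((i * 1 : M) : M ⧸ H) = ((g : M) : M ⧸ H) := hig
  have := QuotientGroup.eq.1 h1
  simpa using this

section main

variable (T : TI S) (h2 : ∃ s t : M, orderOf s = 2 ∧ orderOf t = 2 ∧ s ∈ (S : Subgroup M) ∧ t ∈ (S : Subgroup M) ∧ s ≠ t)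

include T h2

theorem card_DD_eq {i j : M} (hi : orderOf i = 2) (hiH : i ∉ Subgroup.normalizer ((S : Subgroup M) : Set M))
    (hj : orderOf j = 2) (hjH : j ∉ Subgroup.normalizer ((S : Subgroup M) : Set M)) :
    Nat.card (DD (Subgroup.normalizer ((S : Subgroup M) : Set M)) i)
      = Nat.card (DD (Subgroup.normalizer ((S : Subgroup M) : Set M)) j) := by
  have h1 := T.card_H hi hiH
  have h3 := T.card_H hj hjH
  rw [h1] at h3
  exact Nat.eq_of_mul_eq_mul_right Nat.card_pos h3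

/-- The injectivity of `β ↦ H_{αβ}`. -/
theorem inj {i₁ i₂ : M} (hi₁ : orderOf i₁ = 2) (hi₁H : i₁ ∉ Subgroup.normalizer ((S : Subgroup M) : Set M))
    (hi₂ : orderOf i₂ = 2) (hi₂H : i₂ ∉ Subgroup.normalizer ((S : Subgroup M) : Set M))
    (h : DD (Subgroup.normalizer ((S : Subgroup M) : Set M)) i₁ = DD (Subgroup.normalizer ((S : Subgroup M) : Set M)) i₂) :
    i₁⁻¹ * i₂ ∈ Subgroup.normalizer ((S : Subgroup M) : Set M) := by
  classical
  set H := Subgroup.normalizer ((S : Subgroup M) : Set M) with hH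
  by_contra hc
  have hinv₁ : i₁⁻¹ = i₁ := by rw [inv_eq_iff_mul_eq_one]; exact T.i_sq hi₁
  rw [hinv₁] at hc
  set c := i₁ * i₂ with hcdef
  obtain ⟨i, hi, hih⟩ := T.exists_inv_to hc
  have hiH : i ∉ H := by
    intro hin
    apply hc
    have : c = i * (i⁻¹ * c) := by group
    rw [this]
    exact H.mul_mem hin hih
  set D := DD H i₁ with hD
  have hcomm : ∀ d ∈ D, c * d * c⁻¹ = d := by
    intro d hd
    have h3 := T.DD_inv hi₂ hi₂H (h ▸ hd)
    have h4 := T.DD_inv hi₁ hi₁H hd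
    calc c * d * c⁻¹ = i₁ * (i₂ * d * i₂⁻¹) * i₁⁻¹ := by rw [hcdef]; group
      _ = i₁ * d⁻¹ * i₁⁻¹ := by rw [h3]
      _ = (i₁ * d * i₁⁻¹)⁻¹ := by group
      _ = d := by rw [h4]; simp
  set k := i⁻¹ * c with hk
  have hDle : D ≤ DD H i := by
    intro d hd
    refine ⟨hd.1, mem_map_conj.2 ?_⟩
    have h3 : i⁻¹ * d * i = k * (c⁻¹ * d * c) * k⁻¹ := by rw [hk]; group
    have h4 : c⁻¹ * d * c = d := by
      have h5 := hcomm d hd
      calc c⁻¹ * d * c = c⁻¹ * (c * d * c⁻¹) * c := by rw [h5]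
        _ = d := by group
    rw [h3, h4]
    exact H.mul_mem (H.mul_mem hih hd.1) (H.inv_mem hih)
  have hDeq : D = DD H i :=
    Subgroup.eq_of_le_of_card_ge hDle (T.card_DD_eq h2 hi hiH hi₁ hi₁H).le
  have hiinv : i⁻¹ = i := by rw [inv_eq_iff_mul_eq_one]; exact T.i_sq hi
  have hkn : ∀ d ∈ DD H i, k * d * k⁻¹ ∈ DD H i := by
    intro d hd
    have hd' : d ∈ D := hDeq ▸ hd
    have h3 : k * d * k⁻¹ = i⁻¹ * (c * d * c⁻¹) * i := by rw [hk]; group
    rw [h3, hcomm d hd', hiinv]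
    have := T.DD_conj hi hiH hd
    rwa [hiinv] at this
  have hkD := T.normalizer_DD hi hiH h2 hih hkn
  have hifix : ∀ d ∈ DD H i, i * d * i⁻¹ = d := by
    intro d hd
    have hd' : d ∈ D := hDeq ▸ hd
    have h3 : i = c * k⁻¹ := by rw [hk]; group
    have h4 : k⁻¹ * d * k = d := by
      have h5 := T.DD_comm hi hiH ((DD H i).inv_mem hkD) hd
      rw [h5]; group
    calc i * d * i⁻¹ = c * (k⁻¹ * d * k) * c⁻¹ := by
          nth_rewrite 1 [h3]
          rw [hk]; group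
      _ = c * d * c⁻¹ := by rw [h4]
      _ = d := hcomm d hd'
  have hne := T.DD_ne_bot hi hiH h2
  apply hne
  rw [eq_bot_iff]
  intro d hd
  rw [Subgroup.mem_bot]
  exact T.DD_fix hi hiH hd (hifix d hd)

/-- Conjugacy of the subgroups `D` in `H`. -/
theorem conj_DD {i j : M} (hi : orderOf i = 2) (hiH : i ∉ Subgroup.normalizer ((S : Subgroup M) : Set M))
    (hj : orderOf j = 2) (hjH : j ∉ Subgroup.normalizer ((S : Subgroup M) : Set M)) :
    ∃ h ∈ Subgroup.normalizer ((S : Subgroup M) : Set M),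
      ∀ d ∈ DD (Subgroup.normalizer ((S : Subgroup M) : Set M)) i,
        h * d * h⁻¹ ∈ DD (Subgroup.normalizer ((S : Subgroup M) : Set M)) j := by
  classical
  set H := Subgroup.normalizer ((S : Subgroup M) : Set M) with hH
  have hrp := T.DD_prime hi hiH (T.DD_ne_bot hi hiH h2)
  set r := Nat.card (DD H i) with hr
  haveI : Fact r.Prime := ⟨hrp⟩
  have hrj : Nat.card (DD H j) = r := (T.card_DD_eq h2 hi hiH hj hjH).symm
  have hcardH := T.card_H hi hiH
  have hodd : Odd r := T.DD_odd hi hiH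
  obtain ⟨k, hk⟩ := IsPGroup.iff_card.1 S.2
  have hfact : (Nat.card H).factorization r = 1 := by
    rw [hcardH, hk, ← hr]
    have hco : (2 ^ k).Coprime r := Nat.Coprime.pow_left _ (Nat.coprime_two_left.2 hodd)
    rw [Nat.factorization_mul hrp.ne_zero (by positivity), Finsupp.add_apply, hrp.factorization_self]
    have : (2 ^ k).factorization r = 0 :=
      Nat.factorization_eq_zero_of_not_dvd (fun h => by
        have := Nat.Coprime.eq_one_of_dvd hco.symm h
        exact hrp.ne_one this)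
    rw [this, add_zero]
  have hle₁ : DD H i ≤ H := inf_le_left
  have hle₂ : DD H j ≤ H := inf_le_left
  let A : Subgroup H := (DD H i).subgroupOf H
  let B : Subgroup H := (DD H j).subgroupOf H
  have hcardA : Nat.card A = r ^ (Nat.card H).factorization r := by
    rw [hfact, pow_one]
    exact Nat.card_congr (Subgroup.subgroupOfEquivOfLe hle₁).toEquiv
  have hcardB : Nat.card B = r ^ (Nat.card H).factorization r := by
    rw [hfact, pow_one, ← hrj]
    exact Nat.card_congr (Subgroup.subgroupOfEquivOfLe hle₂).toEquiv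
  let SA : Sylow r H := Sylow.ofCard A hcardA
  let SB : Sylow r H := Sylow.ofCard B hcardB
  obtain ⟨g, hg⟩ := MulAction.exists_smul_eq H SA SB
  refine ⟨g, g.2, fun d hd => ?_⟩
  have hdA : (⟨d, hle₁ hd⟩ : H) ∈ (SA : Subgroup H) := by
    show (⟨d, hle₁ hd⟩ : H) ∈ A
    rw [Subgroup.mem_subgroupOf]
    exact hd
  have hmem : g * (⟨d, hle₁ hd⟩ : H) * g⁻¹ ∈ (SB : Subgroup H) := by
    rw [← hg, Sylow.coe_subgroup_smul]
    exact ⟨_, hdA, rfl⟩
  have hmem2 : g * (⟨d, hle₁ hd⟩ : H) * g⁻¹ ∈ B := hmem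
  rw [Subgroup.mem_subgroupOf] at hmem2
  simpa using hmem2

/-- `H` is transitive on the cosets other than `H`. -/
theorem trans {g₁ g₂ : M} (hg₁ : g₁ ∉ Subgroup.normalizer ((S : Subgroup M) : Set M))
    (hg₂ : g₂ ∉ Subgroup.normalizer ((S : Subgroup M) : Set M)) :
    ∃ h ∈ Subgroup.normalizer ((S : Subgroup M) : Set M),
      (h * g₁)⁻¹ * g₂ ∈ Subgroup.normalizer ((S : Subgroup M) : Set M) := by
  classical
  set H := Subgroup.normalizer ((S : Subgroup M) : Set M) with hH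
  obtain ⟨i₁, hi₁, hk₁⟩ := T.exists_inv_to hg₁
  obtain ⟨i₂, hi₂, hk₂⟩ := T.exists_inv_to hg₂
  have hnotH : ∀ {i g : M}, i⁻¹ * g ∈ H → g ∉ H → i ∉ H := by
    intro i g h1 h3 h4
    apply h3
    have : g = i * (i⁻¹ * g) := by group
    rw [this]
    exact H.mul_mem h4 h1
  have hi₁H := hnotH hk₁ hg₁
  have hi₂H := hnotH hk₂ hg₂
  obtain ⟨h, hh, hconj⟩ := T.conj_DD h2 hi₁ hi₁H hi₂ hi₂H
  have hgH : h * i₁ ∉ H := by
    intro hin
    apply hi₁H
    have : i₁ = h⁻¹ * (h * i₁) := by group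
    rw [this]
    exact H.mul_mem (H.inv_mem hh) hin
  obtain ⟨i₃, hi₃, hk₃⟩ := T.exists_inv_to hgH
  have hi₃H := hnotH hk₃ hgH
  have hDD : DD H i₃ = DD H i₂ := by
    rw [DD_congr hk₃]
    have hle : (DD H i₁).map (MulAut.conj h).toMonoidHom ≤ DD H i₂ := by
      rintro _ ⟨d, hd, rfl⟩
      exact hconj d hd
    have hmapeq : (DD H i₁).map (MulAut.conj h).toMonoidHom = DD H i₂ := by
      apply Subgroup.eq_of_le_of_card_ge hle
      have h3 : Nat.card ((DD H i₁).map (MulAut.conj h).toMonoidHom) = Nat.card (DD H i₁) :=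
        Nat.card_congr (Subgroup.equivMapOfInjective _ _ (MulAut.conj h).injective).toEquiv.symm
      rw [h3, T.card_DD_eq h2 hi₂ hi₂H hi₁ hi₁H]
    have hle2 : DD H i₂ ≤ DD H (h * i₁) := by
      rw [← hmapeq]
      rintro _ ⟨d, hd, rfl⟩
      refine ⟨?_, ?_⟩
      · exact H.mul_mem (H.mul_mem hh hd.1) (H.inv_mem hh)
      · refine mem_map_conj.2 ?_
        have e : (h * i₁)⁻¹ * ((MulAut.conj h).toMonoidHom d) * (h * i₁) = i₁⁻¹ * d * i₁ := by
          simp only [MulEquiv.coe_toMonoidHom, MulAut.conj_apply]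
          group
        rw [e]
        exact mem_map_conj.1 hd.2
    symm
    apply Subgroup.eq_of_le_of_card_ge hle2
    rw [← DD_congr hk₃, T.card_DD_eq h2 hi₃ hi₃H hi₂ hi₂H]
  have hfin := T.inj h2 hi₃ hi₃H hi₂ hi₂H hDD
  refine ⟨h, hh, ?_⟩
  have e : (h * g₁)⁻¹ * g₂ = (i₁⁻¹ * g₁)⁻¹ * (i₃⁻¹ * (h * i₁))⁻¹ * (i₃⁻¹ * i₂) * (i₂⁻¹ * g₂) := by group
  rw [e]
  exact H.mul_mem (H.mul_mem (H.mul_mem (H.inv_mem hk₁) (H.inv_mem hk₃)) hfin) hk₂

/-- The Zassenhaus property. -/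
theorem zassenhaus [IsSimpleGroup M] (hS : (S : Subgroup M) ≠ ⊤) :
    Cfsg.IsZassenhausGroup M (M ⧸ Subgroup.normalizer ((S : Subgroup M) : Set M)) := by
  classical
  set H := Subgroup.normalizer ((S : Subgroup M) : Set M) with hH
  obtain ⟨u, hu, huH⟩ := T.exists_involution hS
  have hne1 : ((1 : M) : M ⧸ H) ≠ ((u : M) : M ⧸ H) := by
    intro h
    apply huH
    have := QuotientGroup.eq.1 h
    rw [inv_one, one_mul] at this
    exact this
  refine ⟨?_, ?_, ?_, ?_, ?_⟩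
  · -- faithful
    have hker : (MulAction.toPermHom M (M ⧸ H)).ker = ⊥ := by
      refine (Subgroup.Normal.eq_bot_or_eq_top (inferInstance : (MulAction.toPermHom M (M ⧸ H)).ker.Normal)).resolve_right ?_
      intro ht
      have h3 : u ∈ (MulAction.toPermHom M (M ⧸ H)).ker := by rw [ht]; trivial
      have h4 : u • ((1 : M) : M ⧸ H) = ((1 : M) : M ⧸ H) := by
        have := congrArg (fun f : Equiv.Perm (M ⧸ H) => f ((1 : M) : M ⧸ H)) (MonoidHom.mem_ker.1 h3)
        simpa using this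
      have h5 := fix_iff.1 h4
      apply huH
      rw [inv_one, one_mul, mul_one] at h5
      exact h5
    have hinj := (MonoidHom.ker_eq_bot_iff _).1 hker
    refine ⟨fun {g₁ g₂} hgg => hinj ?_⟩
    ext x
    exact hgg x
  · -- 2-transitive
    rw [MulAction.is_two_pretransitive_iff]
    intro a c a₂ c₂ hac hac₂
    obtain ⟨a', rfl⟩ := QuotientGroup.mk_surjective a
    obtain ⟨c', rfl⟩ := QuotientGroup.mk_surjective c
    obtain ⟨a₂', rfl⟩ := QuotientGroup.mk_surjective a₂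
    obtain ⟨c₂', rfl⟩ := QuotientGroup.mk_surjective c₂
    have h3 : a'⁻¹ * c' ∉ H := fun h => hac (QuotientGroup.eq.2 h)
    have h4 : a₂'⁻¹ * c₂' ∉ H := fun h => hac₂ (QuotientGroup.eq.2 h)
    obtain ⟨h, hh, hmem⟩ := T.trans h2 h3 h4
    refine ⟨a₂' * h * a'⁻¹, ?_, ?_⟩
    · show ((a₂' * h * a'⁻¹ * a' : M) : M ⧸ H) = (a₂' : M ⧸ H)
      rw [QuotientGroup.eq]
      have e : (a₂' * h * a'⁻¹ * a')⁻¹ * a₂' = h⁻¹ := by group
      rw [e]
      exact H.inv_mem hh
    · show ((a₂' * h * a'⁻¹ * c' : M) : M ⧸ H) = (c₂' : M ⧸ H)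
      rw [QuotientGroup.eq]
      have e : (a₂' * h * a'⁻¹ * c')⁻¹ * c₂' = (h * (a'⁻¹ * c'))⁻¹ * (a₂'⁻¹ * c₂') := by group
      rw [e]
      exact hmem
  · -- three fixed points
    intro g a c e hac hce hae hga hgc hge
    obtain ⟨a', rfl⟩ := QuotientGroup.mk_surjective a
    obtain ⟨c', rfl⟩ := QuotientGroup.mk_surjective c
    obtain ⟨e', rfl⟩ := QuotientGroup.mk_surjective e
    have hnot : ∀ {x : M}, ((a' : M ⧸ H) ≠ (x : M ⧸ H)) → a'⁻¹ * x ∉ H := fun hx h => hx (QuotientGroup.eq.2 h)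
    have hg₁ := hnot hac
    have hg₂ := hnot hae
    obtain ⟨i₁, hi₁, hk₁⟩ := T.exists_inv_to hg₁
    obtain ⟨i₂, hi₂, hk₂⟩ := T.exists_inv_to hg₂
    have hnotH : ∀ {i g : M}, i⁻¹ * g ∈ H → g ∉ H → i ∉ H := by
      intro i g h1 h3 h4
      apply h3
      have : g = i * (i⁻¹ * g) := by group
      rw [this]
      exact H.mul_mem h4 h1
    have hi₁H := hnotH hk₁ hg₁
    have hi₂H := hnotH hk₂ hg₂
    set g' := a'⁻¹ * g * a' with hg'
    have hg'H : g' ∈ H := fix_iff.1 hga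
    have hfixc : c'⁻¹ * g * c' ∈ H := fix_iff.1 hgc
    have hfixe : e'⁻¹ * g * e' ∈ H := fix_iff.1 hge
    have hmemD : ∀ {i x : M}, i⁻¹ * (a'⁻¹ * x) ∈ H → x⁻¹ * g * x ∈ H → g' ∈ DD H i := by
      intro i x h3 h4
      refine ⟨hg'H, mem_map_conj.2 ?_⟩
      have e : i⁻¹ * g' * i = (i⁻¹ * (a'⁻¹ * x)) * (x⁻¹ * g * x) * (i⁻¹ * (a'⁻¹ * x))⁻¹ := by
        rw [hg']; group
      rw [e]
      exact H.mul_mem (H.mul_mem h3 h4) (H.inv_mem h3)
    have hD₁ := hmemD hk₁ hfixc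
    have hD₂ := hmemD hk₂ hfixe
    by_cases hg1 : g' = 1
    · have : g = a' * g' * a'⁻¹ := by rw [hg']; group
      rw [this, hg1]; group
    · exfalso
      have hP₁ := T.DD_prime hi₁ hi₁H (T.DD_ne_bot hi₁ hi₁H h2)
      have hP₂ := T.DD_prime hi₂ hi₂H (T.DD_ne_bot hi₂ hi₂H h2)
      have hZ : ∀ {i : M}, (Nat.card (DD H i)).Prime → g' ∈ DD H i → DD H i = Subgroup.zpowers g' := by
        intro i hp hmem
        symm
        apply Subgroup.eq_of_le_of_card_ge ((Subgroup.zpowers_le).2 hmem)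
        have hd : Nat.card (Subgroup.zpowers g') ∣ Nat.card (DD H i) :=
          Subgroup.card_dvd_of_le ((Subgroup.zpowers_le).2 hmem)
        rcases (Nat.dvd_prime hp).1 hd with h5 | h5
        · rw [Nat.card_zpowers, orderOf_eq_one_iff] at h5
          exact absurd h5 hg1
        · exact h5.ge
      have heq : DD H i₁ = DD H i₂ := by rw [hZ hP₁ hD₁, hZ hP₂ hD₂]
      have hfin := T.inj h2 hi₁ hi₁H hi₂ hi₂H heq
      apply hce
      rw [QuotientGroup.eq]
      have e : c'⁻¹ * e' = (i₁⁻¹ * (a'⁻¹ * c'))⁻¹ * (i₁⁻¹ * i₂) * (i₂⁻¹ * (a'⁻¹ * e')) := by group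
      rw [e]
      exact H.mul_mem (H.mul_mem (H.inv_mem hk₁) hfin) hk₂
  · -- a nonidentity element fixing two points
    obtain ⟨d, hd, hd1⟩ := (Subgroup.bot_or_exists_ne_one _).resolve_left (T.DD_ne_bot hu huH h2)
    refine ⟨d, hd1, ((1 : M) : M ⧸ H), ((u : M) : M ⧸ H), hne1, ?_, ?_⟩
    · rw [fix_iff, inv_one, one_mul, mul_one]
      exact hd.1
    · rw [fix_iff]
      exact mem_map_conj.1 hd.2
  · -- normal transitive subgroups
    intro N hN htr
    refine ⟨((1 : M) : M ⧸ H), ?_⟩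
    have hNb : N ≠ ⊥ := by
      rintro rfl
      obtain ⟨n, hn⟩ := htr.exists_smul_eq ((1 : M) : M ⧸ H) ((u : M) : M ⧸ H)
      have hn1 : (n : M) = 1 := n.2
      have hn2 : (n : M) • ((1 : M) : M ⧸ H) = ((u : M) : M ⧸ H) := hn
      rw [hn1, one_smul] at hn2
      exact hne1 hn2
    have hNt : N = ⊤ := hN.eq_bot_or_eq_top.resolve_left hNb
    obtain ⟨e, he, he1, -⟩ := T.exists_e
    intro hst
    have hmem : (⟨e, by rw [hNt]; trivial⟩ : N) ∈ MulAction.stabilizer N ((1 : M) : M ⧸ H) := by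
      rw [MulAction.mem_stabilizer_iff]
      show e • ((1 : M) : M ⧸ H) = ((1 : M) : M ⧸ H)
      rw [fix_iff, inv_one, one_mul, mul_one]
      exact Subgroup.le_normalizer (omegaZ_le _ he)
    have hmem' : (⟨e, by rw [hNt]; trivial⟩ : N) ∈ (⊥ : Subgroup N) := hst.le hmem
    rw [Subgroup.mem_bot] at hmem'
    exact he1 (congrArg Subtype.val hmem')

end main

end TI

end Cfsg.Agent.Lib.EPPO7
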