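import Cfsg.Agent.Lib.EPPO7.NonTI
import Cfsg.Agent.Lib.EPPO7.TI3
import Cfsg.Agent.S0183
import Cfsg.Agent.S0340

/-!
# Simple groups in the class are projective special linear groups
-/

set_option autoImplicit false
set_option linter.style.haveILetI false

namespace Cfsg.Agent.Lib.EPPO7

universe u

variable {M : Type u} [Group M] [Finite M]

/-- Odd-order groups in the class are solvable. -/
theorem solvable_of_odd (hM : PP M) (hodd : Odd (Nat.card M)) : Group.IsSolvable M := by
  classical
  refine Cfsg.Agent.S0183.result hodd ?_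
  intro g hg
  have hgodd : Odd (orderOf g) := Odd.of_dvd_nat hodd (orderOf_dvd_natCard g)
  rcases hM.dichotomy hg with ⟨k, hk, h1⟩ | ⟨hp, h2, -⟩
  · exfalso
    rw [h1] at hgodd
    exact (Nat.not_odd_iff_even.2 (Nat.even_pow.2 ⟨even_two, hk⟩)) hgodd
  · haveI : Fact (orderOf g).Prime := ⟨hp⟩
    have hP : IsPGroup (orderOf g) (Subgroup.centralizer ({g} : Set M)) := by
      rw [IsPGroup.iff_orderOf]
      intro x
      by_cases hx : x = 1
      · exact ⟨0, by simp [hx]⟩
      · refine ⟨1, ?_⟩
        have hc : Commute g (x : M) := (Subgroup.mem_centralizer_singleton_iff.1 x.2).symm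
        have := hM.eq_of_commute_odd hc hp h2 (fun h => hx (Subtype.ext h))
        rw [pow_one, Subgroup.orderOf_coe] at *
        exact this
    haveI : Fact (orderOf g).Prime := ⟨hp⟩
    have := hP.isNilpotent
    exact this

theorem even_of_pp (hM : PP M) [IsSimpleGroup M] (hnc : ∃ a b : M, a * b ≠ b * a) : Even (Nat.card M) := by
  by_contra hodd
  have hodd' : Odd (Nat.card M) := Nat.not_even_iff_odd.1 hodd
  have hs := solvable_of_odd hM hodd'
  obtain ⟨a, b, hab⟩ := hnc
  exact hab (IsSimpleGroup.comm_iff_isSolvable.2 hs a b)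

theorem not_suzuki (hM : PP M) : ¬ Cfsg.IsSuzuki M := by
  rintro ⟨-, m, -, hc⟩
  have h5 : 5 ∣ Nat.card M := by
    rw [hc]
    apply Dvd.dvd.mul_right
    apply Dvd.dvd.mul_left
    have h1 : (2 ^ (2 * m + 1)) ^ 2 + 1 = 4 * 16 ^ m + 1 := by
      rw [show (16 : ℕ) = 2 ^ 4 by norm_num, ← pow_mul, ← pow_mul,
        show (2 * m + 1) * 2 = 4 * m + 2 by ring, pow_add]
      ring
    have h2 : 16 ^ m % 5 = 1 := by
      rw [Nat.pow_mod]
      simp
    rw [h1]
    omega
  haveI : Fact (Nat.Prime 5) := ⟨by norm_num⟩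
  obtain ⟨x, hx⟩ := exists_prime_orderOf_dvd_card' 5 h5
  have hx1 : x ≠ 1 := by
    rintro rfl
    simp at hx
  rcases hM x hx1 with ⟨k, hk⟩ | ⟨-, h⟩
  · rw [hx] at hk
    have : 2 ∣ 5 := by
      rcases k with _ | k
      · simp at hk
      · rw [hk, pow_succ]
        exact Dvd.intro_left _ rfl
    omega
  · exact h hx

/-- A simple nonabelian group in the class is a `PSL₂`. -/
theorem simple_case (hM : PP M) (hIH : IHyp.{u} (Nat.card M)) [IsSimpleGroup M]
    (hnc : ∃ a b : M, a * b ≠ b * a) :
    ∃ (F : Type) (_ : Field F) (_ : Fintype F),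
      Nonempty (M ≃* Matrix.ProjectiveSpecialLinearGroup (Fin 2) F) := by
  classical
  haveI : Fact (Nat.Prime 2) := ⟨Nat.prime_two⟩
  have heven := even_of_pp hM hnc
  have hno : ∀ N : Subgroup M, N.Normal → N.index ≠ 2 := by
    intro N hN hi
    rcases hN.eq_bot_or_eq_top with rfl | rfl
    · rw [Subgroup.index_bot] at hi
      obtain ⟨a, b, hab⟩ := hnc
      have : Nat.card M = 2 := hi
      have hc : IsCyclic M := isCyclic_of_prime_card (p := 2) this
      obtain ⟨g, hg⟩ := hc.exists_zpow_surjective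
      obtain ⟨i, rfl⟩ := hg a
      obtain ⟨j, rfl⟩ := hg b
      exact hab (zpow_mul_comm g i j)
    · rw [Subgroup.index_top] at hi
      omega
  obtain ⟨S⟩ : Nonempty (Sylow 2 M) := inferInstance
  have hSb : (S : Subgroup M) ≠ ⊥ :=
    S.ne_bot_of_dvd_card (by exact heven.two_dvd)
  have hSt : (S : Subgroup M) ≠ ⊤ := by
    intro ht
    have hP : IsPGroup 2 M := by
      have := S.2
      rw [ht] at this
      exact this.of_surjective (Subgroup.topEquiv (G := M)).toMonoidHom Subgroup.topEquiv.surjective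
    haveI : Nontrivial M := inferInstance
    have hz := hP.center_nontrivial
    have hZ : Subgroup.center M = ⊤ := by
      refine (Subgroup.center M).normal_of_characteristic |>.eq_bot_or_eq_top.resolve_left ?_
      intro hb
      rw [hb] at hz
      exact not_nontrivial _ hz
    obtain ⟨a, b, hab⟩ := hnc
    have : a ∈ Subgroup.center M := by rw [hZ]; trivial
    exact hab ((Subgroup.mem_center_iff.1 this b).symm)
  by_cases hTI : ∀ S' : Sylow 2 M, S' ≠ S → (S : Subgroup M) ⊓ S' = ⊥
  · have hNt : Subgroup.normalizer ((S : Subgroup M) : Set M) ≠ ⊤ := by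
      intro ht
      have hn : (S : Subgroup M).Normal := Subgroup.normalizer_eq_top_iff.1 ht
      rcases hn.eq_bot_or_eq_top with h | h
      · exact hSb h
      · exact hSt h
    have T : TI S := ⟨hM, hSb, hTI, hNt⟩
    have h2 := T.two_involutions hnc heven
    have hZ := T.zassenhaus h2 hSt
    rcases Cfsg.Agent.S0340.result hZ with h | h
    · exact h
    · exact absurd h (not_suzuki hM)
  · push Not at hTI
    obtain ⟨S', hne, hinf⟩ := hTI
    obtain ⟨x, hx, hx1⟩ := (Subgroup.bot_or_exists_ne_one _).resolve_left hinf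
    obtain ⟨F, i1, i2, -, h⟩ := nonTI hM hIH hno S hne hx.1 hx.2 hx1
    exact ⟨F, i1, i2, h⟩

end Cfsg.Agent.Lib.EPPO7
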