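import Cfsg.Agent.Lib.EPPO7.PSL7b
import Cfsg.Agent.Lib.EPPO7.Simple
import Cfsg.Agent.Lib.Transfer.SolvCentral
import Cfsg.Agent.S0144
import Cfsg.Agent.S1475
import Cfsg.Agent.S3992

/-!
# Reductions: the solvable radical
-/

set_option autoImplicit false
set_option linter.style.haveILetI false

namespace Cfsg.Agent.Lib.EPPO7

universe u

/-- The conclusion of the classification. -/
def Concl (Y : Type*) [Group Y] : Prop :=
  ∃ (F : Type) (_ : Field F) (_ : Fintype F), Fintype.card F = 7 ∧
    Nonempty (Y ≃* Matrix.ProjectiveSpecialLinearGroup (Fin 2) F)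

section

variable {G : Type u} [Group G] [Finite G]

theorem solvable_of_two_primes (h : (Nat.card G).primeFactors.card ≤ 2) : Group.IsSolvable G := by
  have hn : Nat.card G ≠ 0 := Nat.card_pos.ne'
  have hprod := Nat.factorization_prod_pow_eq_self hn
  rw [Finsupp.prod, Nat.support_factorization] at hprod
  have hcases : (Nat.card G).primeFactors.card = 0 ∨ (Nat.card G).primeFactors.card = 1 ∨
      (Nat.card G).primeFactors.card = 2 := by omega
  rcases hcases with h0 | h1 | h2
  · rw [Finset.card_eq_zero] at h0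
    rw [h0] at hprod
    refine Cfsg.Agent.S0144.result 2 2 0 0 Nat.prime_two Nat.prime_two ?_
    simpa using hprod.symm
  · obtain ⟨p, hp⟩ := Finset.card_eq_one.1 h1
    rw [hp] at hprod
    have hpp : p.Prime := Nat.prime_of_mem_primeFactors (by rw [hp]; simp)
    refine Cfsg.Agent.S0144.result p p ((Nat.card G).factorization p) 0 hpp hpp ?_
    simpa using hprod.symm
  · obtain ⟨p, q, hpq, hp⟩ := Finset.card_eq_two.1 h2
    rw [hp, Finset.prod_pair hpq] at hprod
    have hpp : p.Prime := Nat.prime_of_mem_primeFactors (by rw [hp]; simp)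
    have hqp : q.Prime := Nat.prime_of_mem_primeFactors (by rw [hp]; simp)
    exact Cfsg.Agent.S0144.result p q _ _ hpp hqp hprod.symm

theorem pp_primePow (hG : PP G) : ∀ g : G, g ≠ 1 → IsPrimePow (orderOf g) := by
  intro g hg
  rcases hG.dichotomy hg with ⟨k, hk, h⟩ | ⟨hp, -, -⟩
  · rw [h]
    exact Nat.prime_two.isPrimePow.pow hk
  · exact hp.isPrimePow

theorem not_solvable_of_primes (hG : PP G) (h3 : 3 ≤ (Nat.card G).primeFactors.card) :
    ¬ Group.IsSolvable G := by
  intro hs
  have := Cfsg.Agent.S1475.result (G := G) (fun g => by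
    by_cases hg : g = 1
    · exact Or.inr hg
    · exact Or.inl (pp_primePow hG g hg))
  omega

theorem exists_radical : ∃ R : Subgroup G, R.Normal ∧ Group.IsSolvable R ∧
    ∀ N : Subgroup G, N.Normal → Group.IsSolvable N → N ≤ R := by
  classical
  let S : Set (Subgroup G) := {N | N.Normal ∧ Group.IsSolvable N}
  have hbot : (⊥ : Subgroup G) ∈ S := ⟨inferInstance, inferInstance⟩
  obtain ⟨R, -, hR⟩ := (Set.toFinite S).exists_le_maximal hbot
  refine ⟨R, hR.1.1, hR.1.2, fun N hN hNs => ?_⟩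
  haveI : R.Normal := hR.1.1
  have hsup : R ⊔ N ∈ S :=
    ⟨Subgroup.sup_normal R N, Cfsg.Agent.Lib.Transfer.SolvCentral.isSolvable_sup R N hR.1.2 hNs⟩
  exact le_sup_right.trans (hR.2 hsup le_sup_left)

theorem IHyp_of_concl {n : ℕ}
    (h : ∀ (Y : Type u) [Group Y] [Finite Y], Nat.card Y < n → PP Y →
      3 ≤ (Nat.card Y).primeFactors.card → Concl Y) : IHyp.{u} n := by
  intro Y _ _ hlt hY h3
  obtain ⟨F, _, _, hF, ⟨e⟩⟩ := h Y hlt hY h3
  have hc : Nat.card Y = 168 := by
    rw [Nat.card_congr e.toEquiv, card_L_of_seven hF]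
  haveI : Fact (Nat.Prime 7) := ⟨by norm_num⟩
  obtain ⟨P⟩ : Nonempty (Sylow 7 Y) := inferInstance
  exact ⟨_, card_normalizer_seven hY hc P⟩

/-- No nontrivial abelian normal prime-power subgroup with quotient `PSL₂(7)`. -/
theorem no_normal_pgroup (hG : PP G) (V : Subgroup G) [V.Normal] (hV : V ≠ ⊥)
    (hVc : ∀ a ∈ V, ∀ b ∈ V, a * b = b * a) {p : ℕ} [hp : Fact p.Prime] (hVp : IsPGroup p V)
    (hC : Concl (G ⧸ V)) : False := by
  classical
  obtain ⟨F, _, _, hF, ⟨e⟩⟩ := hC
  have hcq : Nat.card (G ⧸ V) = 168 := by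
    rw [Nat.card_congr e.toEquiv, card_L_of_seven hF]
  have hQ : PP (G ⧸ V) := hG.of_surjective (QuotientGroup.mk' V) (QuotientGroup.mk'_surjective V)
  by_cases hp2 : p = 2
  · subst hp2
    haveI : Fact (Nat.Prime 7) := ⟨by norm_num⟩
    obtain ⟨P⟩ : Nonempty (Sylow 7 (G ⧸ V)) := inferInstance
    exact no_pq hG V hVp hV _ (p := 3) (q := 7) (by norm_num) (by norm_num) (by norm_num) (by norm_num)
      (card_normalizer_seven hQ hcq P)
  · obtain ⟨a, b, ha, hb, hab, hcomm⟩ := exists_commuting_involutions hF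
    -- elements of `V` have order a power of `p`
    have hVord : ∀ v ∈ V, ∃ m : ℕ, orderOf v = p ^ m := by
      intro v hv
      obtain ⟨m, hm⟩ := (IsPGroup.iff_orderOf.1 hVp) ⟨v, hv⟩
      exact ⟨m, by rw [← Subgroup.orderOf_mk]; exact hm⟩
    -- lifting involutions
    have hlift : ∀ x : G, orderOf (x : G ⧸ V) = 2 → orderOf x = 2 := by
      intro x hx
      have hd : 2 ∣ orderOf x := by
        rw [← hx]
        exact orderOf_map_dvd (QuotientGroup.mk' V) x
      have hx1 : x ≠ 1 := by
        rintro rfl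
        simp at hd
      have hsq : x ^ 2 ∈ V := by
        rw [← QuotientGroup.eq_one_iff, QuotientGroup.mk_pow, ← hx, pow_orderOf_eq_one]
      obtain ⟨m, hm⟩ := hVord _ hsq
      rcases hG.dichotomy hx1 with ⟨k, hk, h⟩ | ⟨hpr, h2, -⟩
      · have hsq1 : x ^ 2 = 1 := by
          obtain ⟨j, rfl⟩ : ∃ j, k = j + 1 := ⟨k - 1, by omega⟩
          have h1 : (x ^ 2) ^ (2 ^ j) = 1 := by
            rw [← pow_mul, ← pow_succ', ← h, pow_orderOf_eq_one]
          have h3 : orderOf (x ^ 2) ∣ 2 ^ j := orderOf_dvd_of_pow_eq_one h1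
          rw [hm] at h3
          have h4 : Nat.Coprime (p ^ m) (2 ^ j) :=
            Nat.Coprime.pow _ _ ((Nat.coprime_primes hp.out Nat.prime_two).2 hp2)
          have h5 := Nat.Coprime.eq_one_of_dvd h4 h3
          rw [← hm] at h5
          exact orderOf_eq_one_iff.1 h5
        exact orderOf_eq_prime hsq1 hx1
      · exact absurd ((Nat.prime_dvd_prime_iff_eq Nat.prime_two hpr).1 hd).symm h2
    -- involutions invert `V`
    have hinvert : ∀ t : G, orderOf t = 2 → ∀ v ∈ V, t * v * t⁻¹ = v⁻¹ := by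
      intro t ht v hv
      have hw : t * v * t⁻¹ ∈ V := (inferInstance : V.Normal).conj_mem v hv t
      have hwv := hVc _ hv _ hw
      have htt : t * t = 1 := by
        rw [← pow_two, ← ht, pow_orderOf_eq_one]
      have hc : Commute t (v * (t * v * t⁻¹)) := by
        show t * (v * (t * v * t⁻¹)) = (v * (t * v * t⁻¹)) * t
        have h1 : t⁻¹ = t := inv_eq_of_mul_eq_one_left htt
        rw [h1] at hwv ⊢
        calc t * (v * (t * v * t)) = (t * v * t) * v * t := by group
          _ = v * (t * v * t) * t := by rw [← hwv]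
      have hwm : v * (t * v * t⁻¹) ∈ V := V.mul_mem hv hw
      obtain ⟨m, hm⟩ := hVord _ hwm
      have hcop : (orderOf t).Coprime (orderOf (v * (t * v * t⁻¹))) := by
        rw [ht, hm]
        exact Nat.Coprime.pow_right _ ((Nat.coprime_primes Nat.prime_two hp.out).2 (Ne.symm hp2))
      rcases hG.mixed hc hcop with h1 | h1
      · rw [h1] at ht
        simp at ht
      · exact eq_inv_of_mul_eq_one_right h1
    obtain ⟨g₁, hg₁⟩ := QuotientGroup.mk_surjective (e.symm a)
    obtain ⟨g₂, hg₂⟩ := QuotientGroup.mk_surjective (e.symm b)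
    have ho₁ : orderOf g₁ = 2 := hlift _ (by rw [hg₁, MulEquiv.orderOf_eq]; exact ha)
    have ho₂ : orderOf g₂ = 2 := hlift _ (by rw [hg₂, MulEquiv.orderOf_eq]; exact hb)
    have ho₃ : orderOf (g₁ * g₂) = 2 := by
      apply hlift
      rw [QuotientGroup.mk_mul, hg₁, hg₂, ← map_mul, MulEquiv.orderOf_eq]
      have haa : a * a = 1 := by
        have h := pow_orderOf_eq_one a
        rw [ha, pow_two] at h
        exact h
      have hbb : b * b = 1 := by
        have h := pow_orderOf_eq_one b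
        rw [hb, pow_two] at h
        exact h
      apply orderOf_eq_prime
      · rw [pow_two]
        calc a * b * (a * b) = a * (b * a) * b := by group
          _ = a * (a * b) * b := by rw [hcomm]
          _ = (a * a) * (b * b) := by group
          _ = 1 := by rw [haa, hbb, one_mul]
      · intro h
        apply hab
        rw [eq_inv_of_mul_eq_one_left h]
        exact inv_eq_of_mul_eq_one_left hbb
    obtain ⟨v, hv, hv1⟩ := (Subgroup.bot_or_exists_ne_one V).resolve_left hV
    have h1 := hinvert _ ho₃ v hv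
    have h2 : (g₁ * g₂) * v * (g₁ * g₂)⁻¹ = v := by
      have h3 := hinvert _ ho₂ v hv
      have h4 := hinvert _ ho₁ v hv
      calc (g₁ * g₂) * v * (g₁ * g₂)⁻¹ = g₁ * (g₂ * v * g₂⁻¹) * g₁⁻¹ := by group
        _ = g₁ * v⁻¹ * g₁⁻¹ := by rw [h3]
        _ = (g₁ * v * g₁⁻¹)⁻¹ := by group
        _ = v := by rw [h4, inv_inv]
    rw [h2] at h1
    have h5 : v ^ 2 = 1 := by
      rw [pow_two]
      nth_rw 1 [h1]
      group
    obtain ⟨m, hm⟩ := hVord v hv
    have h6 : p ^ m ∣ 2 := by
      rw [← hm]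
      exact orderOf_dvd_of_pow_eq_one h5
    have h7 : Nat.Coprime (p ^ m) 2 := Nat.Coprime.pow_left _ ((Nat.coprime_primes hp.out Nat.prime_two).2 hp2)
    have h8 := Nat.Coprime.eq_one_of_dvd h7 h6
    rw [← hm] at h8
    exact hv1 (orderOf_eq_one_iff.1 h8)

end

end Cfsg.Agent.Lib.EPPO7
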